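import Groth.Agent.H8Props.IndPoint.Main
import Groth.Agent.H7Lim.Basic
import Mathlib.AlgebraicGeometry.Pullbacks

/-!
The base change of an `S`-morphism `f : X ⟶ Y` along a morphism `t : T ⟶ S`.
-/

set_option autoImplicit false
set_option linter.style.haveILetI false

universe u

open AlgebraicGeometry CategoryTheory Limits

namespace Groth.Agent.H8Props.IndPoint

variable {X Y S : Scheme.{u}} (f : X ⟶ Y) (g : Y ⟶ S)

/-- The base change of `f` along `t`. -/
noncomputable abbrev fT {T : Scheme.{u}} (t : T ⟶ S) : pullback (f ≫ g) t ⟶ pullback g t :=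
  pullback.lift (pullback.fst (f ≫ g) t ≫ f) (pullback.snd (f ≫ g) t)
    ((Category.assoc _ _ _).trans pullback.condition)

theorem fT_snd {T : Scheme.{u}} (t : T ⟶ S) : fT f g t ≫ pullback.snd g t = pullback.snd (f ≫ g) t :=
  pullback.lift_snd _ _ _

theorem isPullback_fT {T : Scheme.{u}} (t : T ⟶ S) :
    IsPullback (pullback.fst (f ≫ g) t) (fT f g t) f (pullback.fst g t) :=
  IsPullback.of_bot (by rw [fT_snd]; exact IsPullback.of_hasPullback (f ≫ g) t)
    (pullback.lift_fst _ _ _).symm (IsPullback.of_hasPullback g t)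

/-- The transition map on the targets. -/
noncomputable def mY {T T' : Scheme.{u}} (h : T' ⟶ T) (t : T ⟶ S) : pullback g (h ≫ t) ⟶ pullback g t :=
  pullback.lift (pullback.fst g (h ≫ t)) (pullback.snd g (h ≫ t) ≫ h)
    (by rw [pullback.condition, Category.assoc])

theorem isPullback_mY {T T' : Scheme.{u}} (h : T' ⟶ T) (t : T ⟶ S) :
    IsPullback (mY g h t) (pullback.snd g (h ≫ t)) (pullback.snd g t) h :=
  IsPullback.of_right (by rw [mY, pullback.lift_fst]; exact IsPullback.of_hasPullback g (h ≫ t))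
    (pullback.lift_snd _ _ _) (IsPullback.of_hasPullback g t)

theorem mY_fst {T T' : Scheme.{u}} (h : T' ⟶ T) (t : T ⟶ S) :
    mY g h t ≫ pullback.fst g t = pullback.fst g (h ≫ t) :=
  pullback.lift_fst _ _ _

/-- The transition map on the sources. -/
noncomputable def mX {T T' : Scheme.{u}} (h : T' ⟶ T) (t : T ⟶ S) :
    pullback (f ≫ g) (h ≫ t) ⟶ pullback (f ≫ g) t :=
  (isPullback_fT f g t).lift (pullback.fst (f ≫ g) (h ≫ t)) (fT f g (h ≫ t) ≫ mY g h t)
    (by rw [Category.assoc, mY_fst, pullback.lift_fst])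

theorem mX_fst {T T' : Scheme.{u}} (h : T' ⟶ T) (t : T ⟶ S) :
    mX f g h t ≫ pullback.fst (f ≫ g) t = pullback.fst (f ≫ g) (h ≫ t) :=
  (isPullback_fT f g t).lift_fst _ _ _

theorem isPullback_mX {T T' : Scheme.{u}} (h : T' ⟶ T) (t : T ⟶ S) :
    IsPullback (mX f g h t) (fT f g (h ≫ t)) (fT f g t) (mY g h t) :=
  IsPullback.of_right (by rw [mX_fst, mY_fst]; exact isPullback_fT f g (h ≫ t))
    ((isPullback_fT f g t).lift_snd _ _ _) (isPullback_fT f g t)

variable {f g}

/-- Any model of the base change is isomorphic to the canonical one. -/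
theorem exists_model_square {T X' Y' : Scheme.{u}} {t : T ⟶ S} {g' : Y' ⟶ T} {f' : X' ⟶ Y'} {qY : Y' ⟶ Y}
    {qX : X' ⟶ X} (hY : IsPullback qY g' g t) (hX : IsPullback qX f' f qY) :
    ∃ (u : pullback (f ≫ g) t ⟶ X') (v : pullback g t ⟶ Y'),
      IsPullback u (fT f g t) f' v ∧ u ≫ qX = pullback.fst (f ≫ g) t := by
  refine ⟨(hX.paste_vert hY).isoPullback.inv, hY.isoPullback.inv, IsPullback.of_horiz_isIso ⟨?_⟩,
    (hX.paste_vert hY).isoPullback_inv_fst⟩
  apply hY.hom_ext
  · rw [Category.assoc, ← hX.w, (hX.paste_vert hY).isoPullback_inv_fst_assoc, Category.assoc,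
      IsPullback.isoPullback_inv_fst, pullback.lift_fst]
  · rw [Category.assoc, (hX.paste_vert hY).isoPullback_inv_snd, Category.assoc,
      IsPullback.isoPullback_inv_snd, fT_snd]

end Groth.Agent.H8Props.IndPoint
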