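import Groth.Agent.H8Props.IndPoint.Ring
import Groth.Agent.H17.IndCons

/-!
A property of the `T`-valued base changes which descends along affine cofiltered limits holds on an
ind-constructible set of points.
-/

set_option autoImplicit false
set_option linter.style.haveILetI false

universe u

open AlgebraicGeometry CategoryTheory Limits Opposite TopologicalSpace Topology

namespace Groth.Agent.H8Props.IndPoint

/-- The points of a basic locally closed neighbourhood form a constructible set. -/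
theorem isConstructible_nhd {R : Type u} [CommRing R] (g : R) (s : Finset R) :
    IsConstructible {x : PrimeSpectrum R | g ∉ x.asIdeal ∧ ∀ a ∈ s, a ∈ x.asIdeal} := by
  classical
  have h1 : ∀ t : Finset R, IsConstructible {x : PrimeSpectrum R | ∀ a ∈ t, a ∈ x.asIdeal} := by
    intro t
    induction t using Finset.induction with
    | empty => simpa using IsConstructible.univ
    | insert a t _ ih =>
      have e : {x : PrimeSpectrum R | ∀ b ∈ insert a t, b ∈ x.asIdeal} =
          (PrimeSpectrum.basicOpen a : Set (PrimeSpectrum R))ᶜ ∩ {x : PrimeSpectrum R | ∀ b ∈ t, b ∈ x.asIdeal} := by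
        ext x; simp
      rw [e]
      exact (PrimeSpectrum.isConstructible_basicOpen).compl.inter ih
  exact (PrimeSpectrum.isConstructible_basicOpen (f := g)).inter (h1 s)

/-- Descent along limits gives ind-constructibility. -/
theorem chartInd_of_descends {S : Scheme.{u}} (P : ∀ T : Scheme.{u}, (T ⟶ S) → Prop)
    (hcomp : ∀ (T T' : Scheme.{u}) (h : T' ⟶ T) (t : T ⟶ S), P T t → P T' (h ≫ t))
    (hdesc : ∀ (I : Type u) [SmallCategory I] [IsCofiltered I] (D : I ⥤ Scheme.{u}) (c : Cone D)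
      (_ : IsLimit c) [∀ (i j : I) (a : i ⟶ j), IsAffineHom (D.map a)] (i₀ : I) [IsAffine (D.obj i₀)]
      (t₀ : D.obj i₀ ⟶ S), P c.pt (c.π.app i₀ ≫ t₀) → ∃ (j : I) (φ : j ⟶ i₀), P (D.obj j) (D.map φ ≫ t₀)) :
    H17.IndCons.ChartInd {s : S | P _ (S.fromSpecResidueField s)} := by
  intro R a _ y hy
  have hKfac : ∀ q : Spec R, Spec.map (CommRingCat.ofHom (algebraMap R q.asIdeal.ResidueField)) ≫ a =
      Spec.map (Scheme.Spec.residueFieldIso R q).hom ≫ Spec.map (a.residueFieldMap q) ≫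
        S.fromSpecResidueField (a q) := by
    intro q
    rw [Scheme.Hom.SpecMap_residueFieldMap_fromSpecResidueField,
      ← Scheme.Spec.map_residueFieldIso_inv_eq_fromSpecResidueField, Category.assoc,
      ← Spec.map_comp_assoc, Iso.inv_hom_id, Spec.map_id, Category.id_comp]
  let p := y.asIdeal
  have hPp : P _ (Spec.map (CommRingCat.ofHom (algebraMap R p.ResidueField)) ≫ a) := by
    rw [hKfac y, ← Category.assoc]
    exact hcomp _ _ _ _ hy
  -- the limit
  let D := (ringFunctor p).op ⋙ Scheme.Spec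
  obtain ⟨hcol⟩ := nonempty_isColimit_residueCocone p
  let c : Cone D := Scheme.Spec.mapCone (residueCocone p).op
  have hc : IsLimit c := isLimitOfPreserves Scheme.Spec hcol.op
  haveI : IsFiltered (Idx p) := inferInstance
  haveI : ∀ i, IsAffine (D.obj i) := fun i => inferInstanceAs (IsAffine (Spec _))
  haveI : ∀ (i j : (Idx p)ᵒᵖ) (f : i ⟶ j), IsAffineHom (D.map f) := fun i j f => inferInstance
  obtain ⟨i₀⟩ : Nonempty (Idx p)ᵒᵖ := ⟨op (Classical.arbitrary _)⟩
  let t₀ : D.obj i₀ ⟶ S := Spec.map (CommRingCat.ofHom (algebraMap R (stage i₀.unop))) ≫ a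
  have hπ : c.π.app i₀ ≫ t₀ = Spec.map (CommRingCat.ofHom (algebraMap R p.ResidueField)) ≫ a := by
    show Spec.map (CommRingCat.ofHom (toResidue i₀.unop)) ≫ Spec.map _ ≫ a = _
    rw [← Spec.map_comp_assoc, ← CommRingCat.ofHom_comp, toResidue_comp]
  obtain ⟨j, φ, hj⟩ := hdesc (Idx p)ᵒᵖ D c hc i₀ t₀ (by rw [hπ]; exact hPp)
  refine ⟨{x | j.unop.g ∉ x.asIdeal ∧ ∀ b ∈ j.unop.s, b ∈ x.asIdeal}, isConstructible_nhd _ _,
    ⟨j.unop.hg, j.unop.hs⟩, fun q hq => ?_⟩
  have hDφ : D.map φ ≫ t₀ = Spec.map (CommRingCat.ofHom (algebraMap R (stage j.unop))) ≫ a := by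
    show Spec.map (CommRingCat.ofHom (transition (leOfHom φ.unop))) ≫ Spec.map _ ≫ a = _
    rw [← Spec.map_comp_assoc, ← CommRingCat.ofHom_comp, transition_comp]
  obtain ⟨ψ, hψ⟩ := exists_stage_lift j.unop (algebraMap R q.asIdeal.ResidueField)
    (isUnit_iff_ne_zero.mpr (mt Ideal.algebraMap_residueField_eq_zero.mp hq.1))
    fun b hb => Ideal.algebraMap_residueField_eq_zero.mpr (hq.2 b hb)
  have h1 : P _ (Spec.map (CommRingCat.ofHom (algebraMap R q.asIdeal.ResidueField)) ≫ a) := by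
    rw [← hψ, CommRingCat.ofHom_comp, Spec.map_comp, Category.assoc, ← hDφ]
    exact hcomp _ _ _ _ hj
  show P _ (S.fromSpecResidueField (a q))
  let e := Spec.map (Scheme.Spec.residueFieldIso R q).hom ≫ Spec.map (a.residueFieldMap q)
  have h2 : inv e ≫ Spec.map (CommRingCat.ofHom (algebraMap R q.asIdeal.ResidueField)) ≫ a =
      S.fromSpecResidueField (a q) := by
    rw [hKfac q, IsIso.inv_comp_eq, Category.assoc]
  rw [← h2]
  exact hcomp _ _ _ _ h1

theorem isIndConstructible_of_descends {S : Scheme.{u}} (P : ∀ T : Scheme.{u}, (T ⟶ S) → Prop)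
    (hcomp : ∀ (T T' : Scheme.{u}) (h : T' ⟶ T) (t : T ⟶ S), P T t → P T' (h ≫ t))
    (hdesc : ∀ (I : Type u) [SmallCategory I] [IsCofiltered I] (D : I ⥤ Scheme.{u}) (c : Cone D)
      (_ : IsLimit c) [∀ (i j : I) (a : i ⟶ j), IsAffineHom (D.map a)] (i₀ : I) [IsAffine (D.obj i₀)]
      (t₀ : D.obj i₀ ⟶ S), P c.pt (c.π.app i₀ ≫ t₀) → ∃ (j : I) (φ : j ⟶ i₀), P (D.obj j) (D.map φ ≫ t₀)) :
    ProCons.IsIndConstructible {s : S | P _ (S.fromSpecResidueField s)} :=
  (chartInd_of_descends P hcomp hdesc).isIndConstructible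

end Groth.Agent.H8Props.IndPoint
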