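import Groth.Agent.H8Props.IndPoint.RelAmple
import Groth.Agent.H12Pic.InvertibleStage
import Groth.Agent.H7Lim.Proper.Descend
import Groth.Agent.H7Lim.Descend
import Groth.Agent.H11Proj.QProjCriterion
import Groth.Agent.H11Proj.ProjectiveProps

/-!
Projectivity and quasi-projectivity of the fibres are ind-constructible.
-/

set_option autoImplicit false
set_option linter.style.haveILetI false

universe u

open AlgebraicGeometry CategoryTheory Limits

namespace Groth.Agent.H8Props.IndPoint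

variable {X Y S : Scheme.{u}} (f : X ⟶ Y) (g : Y ⟶ S)

/-- Quasi-projectivity of the base change along `t`. -/
def QProjAt (T : Scheme.{u}) (t : T ⟶ S) : Prop := RelProj.IsQuasiProjective (fT f g t)

/-- Projectivity of the base change along `t`. -/
def ProjAt (T : Scheme.{u}) (t : T ⟶ S) : Prop := RelProj.IsProjective (fT f g t)

theorem qProjAt_comp (T T' : Scheme.{u}) (h : T' ⟶ T) (t : T ⟶ S) (ha : QProjAt f g T t) :
    QProjAt f g T' (h ≫ t) :=
  H17.LocalProj.isQuasiProjective_of_isPullback (isPullback_mX f g h t) ha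

theorem projAt_comp (T T' : Scheme.{u}) (h : T' ⟶ T) (t : T ⟶ S) (ha : ProjAt f g T t) :
    ProjAt f g T' (h ≫ t) :=
  H17.LocalProj.isProjective_of_isPullback (isPullback_mX f g h t) ha

section Core

variable {I : Type u} [SmallCategory I] [IsCofiltered I] {D : I ⥤ Scheme.{u}} {c : Cone D} (hc : IsLimit c)
  [∀ (i j : I) (a : i ⟶ j), IsAffineHom (D.map a)] {i₀ : I} [IsAffine (D.obj i₀)] {A B : Scheme.{u}}
  (a : A ⟶ B) (b : B ⟶ D.obj i₀) [LocallyOfFinitePresentation b] [QuasiCompact b] [QuasiSeparated b]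
  [LocallyOfFinitePresentation (a ≫ b)] [QuasiCompact (a ≫ b)] [QuasiSeparated (a ≫ b)]

include hc in
theorem qProjAt_descends_base (h : QProjAt a b c.pt (c.π.app i₀)) :
    ∃ (j : I) (φ : j ⟶ i₀), QProjAt a b (D.obj j) (D.map φ) := by
  obtain ⟨-, -, M, hM⟩ := h
  -- the module at a stage
  let e₀ : Over i₀ := Over.mk (𝟙 i₀)
  haveI : ∀ (i k : Over i₀) (φ : i ⟶ k), IsAffineHom ((H7Lim.pbDiagram D i₀ (a ≫ b)).map φ) := fun i k φ =>
    H7Lim.isAffineHom_pbDiagram_map D i₀ (a ≫ b) i k φ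
  haveI : CompactSpace ((H7Lim.pbDiagram D i₀ (a ≫ b)).obj e₀) :=
    haveI : IsAffineHom (D.map e₀.hom) := inferInstance
    haveI : CompactSpace (D.obj e₀.left) := QuasiCompact.compactSpace_of_compactSpace (D.map e₀.hom)
    @QuasiCompact.compactSpace_of_compactSpace _ _ (pullback.snd (a ≫ b) (D.map e₀.hom))
      (MorphismProperty.pullback_snd _ _ ‹QuasiCompact (a ≫ b)›) ‹_›
  haveI : QuasiSeparatedSpace ((H7Lim.pbDiagram D i₀ (a ≫ b)).obj e₀) :=
    haveI : IsAffineHom (D.map e₀.hom) := inferInstance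
    haveI : QuasiSeparatedSpace (D.obj e₀.left) := quasiSeparatedSpace_of_quasiSeparated (D.map e₀.hom)
    @quasiSeparatedSpace_of_quasiSeparated _ _ (pullback.snd (a ≫ b) (D.map e₀.hom)) ‹_›
      (MorphismProperty.pullback_snd _ _ ‹QuasiSeparated (a ≫ b)›)
  obtain ⟨k, -, Lk, hLk, ⟨eL⟩⟩ := H12Pic.exists_invertible_stage (H7Lim.isLimitPbCone D i₀ (a ≫ b) hc) e₀
    (H11Ample.isInvertible_of_isRelAmple hM)
  let tk := D.map k.hom
  let fk := fT a b tk
  let gk := pullback.snd b tk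
  haveI : IsAffine (D.obj k.left) := isAffine_of_isAffineHom (D.map k.hom)
  have hfg : fk ≫ gk = pullback.snd (a ≫ b) tk := fT_snd a b tk
  haveI : LocallyOfFinitePresentation (fk ≫ gk) := by rw [hfg]; infer_instance
  haveI : QuasiCompact (fk ≫ gk) := by rw [hfg]; infer_instance
  haveI : QuasiSeparated (fk ≫ gk) := by rw [hfg]; infer_instance
  let u : pullback (a ≫ b) (c.π.app i₀) ⟶ pullback (a ≫ b) tk := (H7Lim.pbCone D c i₀ (a ≫ b)).π.app k
  have hw : c.π.app k.left ≫ tk = c.π.app i₀ := c.w k.hom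
  let v : pullback b (c.π.app i₀) ⟶ pullback b tk :=
    pullback.lift (pullback.fst b _) (pullback.snd b _ ≫ c.π.app k.left)
      (by rw [Category.assoc, hw, pullback.condition])
  have hv : IsPullback v (pullback.snd b (c.π.app i₀)) gk (c.π.app k.left) :=
    IsPullback.of_right (by rw [pullback.lift_fst, hw]; exact IsPullback.of_hasPullback b (c.π.app i₀))
      (pullback.lift_snd _ _ _) (IsPullback.of_hasPullback b tk)
  have hu1 : u ≫ pullback.fst (a ≫ b) tk = pullback.fst (a ≫ b) (c.π.app i₀) :=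
    (pullback.lift_fst _ _ _).trans (Category.comp_id _)
  have hu : IsPullback u (fT a b (c.π.app i₀)) fk v := by
    refine IsPullback.of_right (by rw [hu1, pullback.lift_fst]; exact isPullback_fT a b (c.π.app i₀)) ?_
      (isPullback_fT a b tk)
    apply pullback.hom_ext
    · rw [Category.assoc, pullback.lift_fst, Category.assoc, pullback.lift_fst, reassoc_of% hu1,
        pullback.lift_fst]
    · rw [Category.assoc, fT_snd, Category.assoc, pullback.lift_snd, ← Category.assoc (fT a b (c.π.app i₀)),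
        fT_snd]
      exact pullback.lift_snd _ _ _
  obtain ⟨l, ψ, Xl, Yl, fl, gl, pY, pX, hY, hX, hA⟩ := (Groth.Agent.S4846.result D c hc k.left fk gk Lk hLk
      (fT a b (c.π.app i₀)) (pullback.snd b (c.π.app i₀)) v u hv hu).mp (H17.LocalProj.isRelAmple_of_iso eL.symm hM)
  refine ⟨l, ψ ≫ k.hom, ?_⟩
  haveI : LocallyOfFiniteType fk := locallyOfFiniteType_of_comp fk gk
  haveI : LocallyOfFiniteType fl := MorphismProperty.of_isPullback hX inferInstance
  have hl : RelProj.IsQuasiProjective fl := ⟨inferInstance, hA.1, _, hA⟩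
  obtain ⟨u', v', hu', -⟩ := exists_model_square (f := a) (g := b)
    (hY.paste_horiz (IsPullback.of_hasPullback b tk)) (hX.paste_horiz (isPullback_fT a b tk))
  have := H17.LocalProj.isQuasiProjective_of_isPullback hu' hl
  show RelProj.IsQuasiProjective (fT a b (D.map (ψ ≫ k.hom)))
  rw [D.map_comp]
  exact this

include hc in
theorem properAt_descends_base (h : IsProper (fT a b (c.π.app i₀))) :
    ∃ (j : I) (φ : j ⟶ i₀), IsProper (fT a b (D.map φ)) := by
  haveI : CompactSpace B := QuasiCompact.compactSpace_of_compactSpace b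
  haveI : QuasiCompact a := QuasiCompact.of_comp a b
  haveI : QuasiSeparated a := QuasiSeparated.of_comp a b
  haveI : LocallyOfFiniteType a := locallyOfFiniteType_of_comp a b
  have hP : H7Lim.DescendsAffine.{u} @IsProper @LocallyOfFiniteType := fun J _ _ E d hd _ _ e _ x _ _ hQ hx =>
    H7Lim.descends_isProper J E d hd e x hQ hx
  obtain ⟨j, φ, Xj, Yj, fj, gj, pY, pX, hY, hX, hj⟩ :=
    (H7Lim.exists_descend_square_iff hc hP i₀ a b
      (IsPullback.of_hasPullback b (c.π.app i₀)) (isPullback_fT a b (c.π.app i₀))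
      (inferInstance : LocallyOfFiniteType a)).mp h
  obtain ⟨u', v', hu', -⟩ := exists_model_square (f := a) (g := b) hY hX
  exact ⟨j, φ, MorphismProperty.of_isPullback hu' hj⟩

include hc in
theorem projAt_descends_base (h : ProjAt a b c.pt (c.π.app i₀)) :
    ∃ (j : I) (φ : j ⟶ i₀), ProjAt a b (D.obj j) (D.map φ) := by
  obtain ⟨j₁, φ₁, h₁⟩ := properAt_descends_base hc a b (H11Proj.isProper_of_isProjective h)
  obtain ⟨j₂, φ₂, h₂⟩ := qProjAt_descends_base hc a b (H11Proj.isQuasiProjective_of_isProjective h)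
  obtain ⟨j, ψ₁, ψ₂, hcomm⟩ := IsCofiltered.cospan φ₁ φ₂
  refine ⟨j, ψ₁ ≫ φ₁, ?_⟩
  haveI : IsProper (fT a b (D.map (ψ₁ ≫ φ₁))) := by
    rw [D.map_comp]
    exact MorphismProperty.of_isPullback (isPullback_mX a b (D.map ψ₁) (D.map φ₁)) h₁
  have h2 : RelProj.IsQuasiProjective (fT a b (D.map (ψ₁ ≫ φ₁))) := by
    rw [hcomm, D.map_comp]
    exact qProjAt_comp a b _ _ (D.map ψ₂) (D.map φ₂) h₂
  obtain ⟨-, -, M, hM⟩ := h2
  haveI : IsAffine (D.obj j) := isAffine_of_isAffineHom (D.map (ψ₁ ≫ φ₁))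
  haveI : CompactSpace ↥(pullback b (D.map (ψ₁ ≫ φ₁))) :=
    QuasiCompact.compactSpace_of_compactSpace (pullback.snd b (D.map (ψ₁ ≫ φ₁)))
  haveI : QuasiSeparatedSpace ↥(pullback b (D.map (ψ₁ ≫ φ₁))) :=
    quasiSeparatedSpace_of_quasiSeparated (pullback.snd b (D.map (ψ₁ ≫ φ₁)))
  exact H11Proj.isProjective_of_isRelAmple hM

end Core

variable [LocallyOfFinitePresentation g] [QuasiCompact g] [QuasiSeparated g]
  [LocallyOfFinitePresentation (f ≫ g)] [QuasiCompact (f ≫ g)] [QuasiSeparated (f ≫ g)]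

theorem descends_of_base (P : ∀ {A B : Scheme.{u}}, (A ⟶ B) → Prop)
    (hP : ∀ {A A' B B' : Scheme.{u}} {p : A ⟶ B} {p' : A' ⟶ B'} {x : A' ⟶ A} {y : B' ⟶ B},
      IsPullback x p' p y → P p → P p')
    (hbase : ∀ {I : Type u} [SmallCategory I] [IsCofiltered I] {D : I ⥤ Scheme.{u}} {c : Cone D} (_ : IsLimit c)
      [∀ (i j : I) (a : i ⟶ j), IsAffineHom (D.map a)] {i₀ : I} [IsAffine (D.obj i₀)] {A B : Scheme.{u}}
      (a : A ⟶ B) (b : B ⟶ D.obj i₀) [LocallyOfFinitePresentation b] [QuasiCompact b] [QuasiSeparated b]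
      [LocallyOfFinitePresentation (a ≫ b)] [QuasiCompact (a ≫ b)] [QuasiSeparated (a ≫ b)],
      P (fT a b (c.π.app i₀)) → ∃ (j : I) (φ : j ⟶ i₀), P (fT a b (D.map φ)))
    (I : Type u) [SmallCategory I] [IsCofiltered I]
    (D : I ⥤ Scheme.{u}) (c : Cone D) (hc : IsLimit c) [∀ (i j : I) (a : i ⟶ j), IsAffineHom (D.map a)]
    (i₀ : I) [IsAffine (D.obj i₀)] (t₀ : D.obj i₀ ⟶ S) (h : P (fT f g (c.π.app i₀ ≫ t₀))) :
    ∃ (j : I) (φ : j ⟶ i₀), P (fT f g (D.map φ ≫ t₀)) := by
  have hfg : fT f g t₀ ≫ pullback.snd g t₀ = pullback.snd (f ≫ g) t₀ := fT_snd f g t₀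
  haveI : LocallyOfFinitePresentation (fT f g t₀ ≫ pullback.snd g t₀) := by rw [hfg]; infer_instance
  haveI : QuasiCompact (fT f g t₀ ≫ pullback.snd g t₀) := by rw [hfg]; infer_instance
  haveI : QuasiSeparated (fT f g t₀ ≫ pullback.snd g t₀) := by rw [hfg]; infer_instance
  obtain ⟨u, v, hu, -⟩ := exists_model_square (f := fT f g t₀) (g := pullback.snd g t₀)
    (isPullback_mY g (c.π.app i₀) t₀) (isPullback_mX f g (c.π.app i₀) t₀)
  obtain ⟨j, φ, hj⟩ := hbase hc (fT f g t₀) (pullback.snd g t₀) (hP hu h)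
  refine ⟨j, φ, ?_⟩
  obtain ⟨u', v', hu', -⟩ := exists_model_square (f := f) (g := g)
    ((IsPullback.of_hasPullback (pullback.snd g t₀) (D.map φ)).paste_horiz (IsPullback.of_hasPullback g t₀))
    ((isPullback_fT (fT f g t₀) (pullback.snd g t₀) (D.map φ)).paste_horiz (isPullback_fT f g t₀))
  exact hP hu' hj

theorem chartInd_qProjAt : H17.IndCons.ChartInd {s : S | QProjAt f g _ (S.fromSpecResidueField s)} :=
  chartInd_of_descends (fun T t => QProjAt f g T t) (qProjAt_comp f g)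
    (descends_of_base f g (fun {_ _} p => RelProj.IsQuasiProjective p)
      (fun H hp => H17.LocalProj.isQuasiProjective_of_isPullback H hp)
      (by intro I _ _ D c hc _ i₀ _ A B a b _ _ _ _ _ _ h; exact qProjAt_descends_base hc a b h))

theorem chartInd_projAt : H17.IndCons.ChartInd {s : S | ProjAt f g _ (S.fromSpecResidueField s)} :=
  chartInd_of_descends (fun T t => ProjAt f g T t) (projAt_comp f g)
    (descends_of_base f g (fun {_ _} p => RelProj.IsProjective p)
      (fun H hp => H17.LocalProj.isProjective_of_isPullback H hp)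
      (by intro I _ _ D c hc _ i₀ _ A B a b _ _ _ _ _ _ h; exact projAt_descends_base hc a b h))

end Groth.Agent.H8Props.IndPoint
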