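import Groth.Agent.H8Props.IndPoint.Fibres
import Groth.Agent.S4846
import Groth.Agent.H11Ample.RelPullback
import Groth.Agent.H17.Ample.LocalProj

/-!
Relative ampleness on the fibres is ind-constructible.
-/

set_option autoImplicit false
set_option linter.style.haveILetI false

universe u

open AlgebraicGeometry CategoryTheory Limits

namespace Groth.Agent.H8Props.IndPoint

/-- Relative ampleness is stable under base change, for any cartesian square. -/
theorem isRelAmple_of_isPullback {X X' Y Y' : Scheme.{u}} {f : X ⟶ Y} {g : Y' ⟶ Y} {h : X' ⟶ X} {f' : X' ⟶ Y'}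
    (H : IsPullback h f' f g) {L : X.Modules} (hL : RelAmple.IsRelAmple f L) :
    RelAmple.IsRelAmple f' ((Scheme.Modules.pullback h).obj L) := by
  haveI := hL.1
  have hq : Mor2.IsQuasiAffine H.isoPullback.hom :=
    H11Ample.isQuasiAffineHom_of_isEmbedding _ (Scheme.homeoOfIso H.isoPullback).isEmbedding
  have h1 := H11Ample.isRelAmple_pullback_of_isQuasiAffine hq (H11Ample.isRelAmple_baseChange f g hL)
  rw [H.isoPullback_hom_snd] at h1
  exact H17.LocalProj.isRelAmple_of_iso ((Scheme.Modules.pullbackComp H.isoPullback.hom (pullback.fst f g)).app L ≪≫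
    (Scheme.Modules.pullbackCongr H.isoPullback_hom_fst).app L) h1

variable {X Y S : Scheme.{u}} (f : X ⟶ Y) (g : Y ⟶ S) (L : X.Modules)

/-- Relative ampleness of the base change along `t`. -/
def AmpleAt (T : Scheme.{u}) (t : T ⟶ S) : Prop :=
  RelAmple.IsRelAmple (fT f g t) ((Scheme.Modules.pullback (pullback.fst (f ≫ g) t)).obj L)

theorem ampleAt_comp (T T' : Scheme.{u}) (h : T' ⟶ T) (t : T ⟶ S) (ha : AmpleAt f g L T t) :
    AmpleAt f g L T' (h ≫ t) :=
  H17.LocalProj.isRelAmple_of_iso ((Scheme.Modules.pullbackComp (mX f g h t) (pullback.fst (f ≫ g) t)).app L ≪≫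
    (Scheme.Modules.pullbackCongr (mX_fst f g h t)).app L) (isRelAmple_of_isPullback (isPullback_mX f g h t) ha)

variable [LocallyOfFinitePresentation g] [QuasiCompact g] [QuasiSeparated g]
  [LocallyOfFinitePresentation (f ≫ g)] [QuasiCompact (f ≫ g)] [QuasiSeparated (f ≫ g)]

theorem ampleAt_descends (hL : PicF.IsInvertible L) (I : Type u) [SmallCategory I] [IsCofiltered I]
    (D : I ⥤ Scheme.{u}) (c : Cone D) (hc : IsLimit c) [∀ (i j : I) (a : i ⟶ j), IsAffineHom (D.map a)]
    (i₀ : I) [IsAffine (D.obj i₀)] (t₀ : D.obj i₀ ⟶ S) (h : AmpleAt f g L c.pt (c.π.app i₀ ≫ t₀)) :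
    ∃ (j : I) (φ : j ⟶ i₀), AmpleAt f g L (D.obj j) (D.map φ ≫ t₀) := by
  let g₀ := pullback.snd g t₀
  let f₀ := fT f g t₀
  have hfg : f₀ ≫ g₀ = pullback.snd (f ≫ g) t₀ := fT_snd f g t₀
  haveI : LocallyOfFinitePresentation (f₀ ≫ g₀) := by rw [hfg]; infer_instance
  haveI : QuasiCompact (f₀ ≫ g₀) := by rw [hfg]; infer_instance
  haveI : QuasiSeparated (f₀ ≫ g₀) := by rw [hfg]; infer_instance
  let L₀ := (Scheme.Modules.pullback (pullback.fst (f ≫ g) t₀)).obj L
  obtain ⟨j, φ, Xj, Yj, fj, gj, pY, pX, hY, hX, hA⟩ := (Groth.Agent.S4846.result D c hc i₀ f₀ g₀ L₀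
      (H11Ample.isInvertible_pullback _ hL) (fT f g (c.π.app i₀ ≫ t₀)) (pullback.snd g (c.π.app i₀ ≫ t₀))
      (mY g (c.π.app i₀) t₀) (mX f g (c.π.app i₀) t₀) (isPullback_mY g _ _) (isPullback_mX f g _ _)).mp
    (H17.LocalProj.isRelAmple_of_iso ((Scheme.Modules.pullbackCongr (mX_fst f g (c.π.app i₀) t₀).symm).app L ≪≫
      ((Scheme.Modules.pullbackComp (mX f g (c.π.app i₀) t₀) (pullback.fst (f ≫ g) t₀)).app L).symm) h)
  refine ⟨j, φ, ?_⟩
  obtain ⟨u, v, hu, he⟩ := exists_model_square (f := f) (g := g) (hY.paste_horiz (IsPullback.of_hasPullback g t₀))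
    (hX.paste_horiz (isPullback_fT f g t₀))
  exact H17.LocalProj.isRelAmple_of_iso ((Scheme.Modules.pullback u).mapIso
      ((Scheme.Modules.pullbackComp pX (pullback.fst (f ≫ g) t₀)).app L) ≪≫
    (Scheme.Modules.pullbackComp u (pX ≫ pullback.fst (f ≫ g) t₀)).app L ≪≫
    (Scheme.Modules.pullbackCongr he).app L) (isRelAmple_of_isPullback hu hA)

theorem chartInd_ampleAt (hL : PicF.IsInvertible L) :
    H17.IndCons.ChartInd {s : S | AmpleAt f g L _ (S.fromSpecResidueField s)} :=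
  chartInd_of_descends (fun T t => AmpleAt f g L T t) (ampleAt_comp f g L) (ampleAt_descends f g L hL)

end Groth.Agent.H8Props.IndPoint
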