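import Mathlib

/-!
The residue field at a prime as filtered colimit of the coordinate rings of the basic locally
closed neighbourhoods of the prime.
-/

set_option autoImplicit false
set_option linter.style.haveILetI false

universe u

open CategoryTheory Limits

namespace Groth.Agent.H8Props.IndPoint

variable {R : Type u} [CommRing R] (p : Ideal R) [p.IsPrime]

/-- A basic locally closed neighbourhood of a prime: an element outside it and finitely many
elements inside it. -/
structure Idx where
  g : R
  hg : g ∉ p
  s : Finset R
  hs : ∀ a ∈ s, a ∈ p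

variable {p}

instance : Preorder (Idx p) where
  le i j := i.g ∣ j.g ∧ i.s ⊆ j.s
  le_refl i := ⟨dvd_rfl, subset_rfl⟩
  le_trans _ _ _ h h' := ⟨h.1.trans h'.1, h.2.trans h'.2⟩

instance : Nonempty (Idx p) :=
  ⟨⟨1, Ideal.IsPrime.one_notMem inferInstance, ∅, by simp⟩⟩

instance : IsDirectedOrder (Idx p) := by
  classical
  exact ⟨fun i j => ⟨⟨i.g * j.g, fun h => (Ideal.IsPrime.mem_or_mem ‹_› h).elim i.hg j.hg, i.s ∪ j.s,
    fun a ha => (Finset.mem_union.mp ha).elim (i.hs a) (j.hs a)⟩,
    ⟨dvd_mul_right _ _, Finset.subset_union_left⟩, ⟨dvd_mul_left _ _, Finset.subset_union_right⟩⟩⟩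

/-- The ideal cut out by a neighbourhood. -/
noncomputable abbrev stageIdeal (i : Idx p) : Ideal (Localization.Away i.g) :=
  (Ideal.span (i.s : Set R)).map (algebraMap R (Localization.Away i.g))

/-- The coordinate ring of a neighbourhood. -/
abbrev stage (i : Idx p) : Type u := Localization.Away i.g ⧸ stageIdeal i

/-- Maps out of a stage are determined on `R`. -/
theorem stage_hom_ext (i : Idx p) {C : Type*} [CommRing C] {φ ψ : stage i →+* C}
    (h : φ.comp (algebraMap R (stage i)) = ψ.comp (algebraMap R (stage i))) : φ = ψ := by
  refine Ideal.Quotient.ringHom_ext (IsLocalization.ringHom_ext (Submonoid.powers i.g) ?_)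
  rw [RingHom.comp_assoc, RingHom.comp_assoc]
  exact h

/-- A ring map out of `R` making `g` a unit and killing `s` factors through the stage. -/
theorem exists_stage_lift (i : Idx p) {C : Type*} [CommRing C] (φ : R →+* C) (hg : IsUnit (φ i.g))
    (hs : ∀ a ∈ i.s, φ a = 0) : ∃ ψ : stage i →+* C, ψ.comp (algebraMap R (stage i)) = φ := by
  refine ⟨Ideal.Quotient.lift _ (IsLocalization.Away.lift i.g hg) ?_, ?_⟩
  · show stageIdeal i ≤ RingHom.ker _
    rw [Ideal.map_le_iff_le_comap, Ideal.span_le]
    intro a ha
    simp [IsLocalization.Away.lift_eq, hs a ha]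
  · ext a
    rw [RingHom.comp_apply, IsScalarTower.algebraMap_apply R (Localization.Away i.g) (stage i),
      Ideal.Quotient.algebraMap_eq, Ideal.Quotient.lift_mk, IsLocalization.Away.lift_eq]

theorem isUnit_stage_g {i j : Idx p} (h : i ≤ j) : IsUnit (algebraMap R (stage j) i.g) := by
  refine isUnit_of_dvd_unit (map_dvd _ h.1) ?_
  rw [IsScalarTower.algebraMap_apply R (Localization.Away j.g) (stage j)]
  exact (IsLocalization.Away.algebraMap_isUnit j.g).map _

theorem algebraMap_stage_eq_zero {i : Idx p} {a : R} (ha : a ∈ i.s) : algebraMap R (stage i) a = 0 := by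
  rw [IsScalarTower.algebraMap_apply R (Localization.Away i.g) (stage i), Ideal.Quotient.algebraMap_eq,
    Ideal.Quotient.eq_zero_iff_mem]
  exact Ideal.mem_map_of_mem _ (Ideal.subset_span ha)

/-- The transition maps. -/
noncomputable def transition {i j : Idx p} (h : i ≤ j) : stage i →+* stage j :=
  (exists_stage_lift i (algebraMap R (stage j)) (isUnit_stage_g h)
    fun _ ha => algebraMap_stage_eq_zero (h.2 ha)).choose

theorem transition_comp {i j : Idx p} (h : i ≤ j) :
    (transition h).comp (algebraMap R (stage i)) = algebraMap R (stage j) :=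
  (exists_stage_lift i (algebraMap R (stage j)) (isUnit_stage_g h)
    fun _ ha => algebraMap_stage_eq_zero (h.2 ha)).choose_spec

/-- The map of a stage to the residue field. -/
noncomputable def toResidue (i : Idx p) : stage i →+* p.ResidueField :=
  (exists_stage_lift i (algebraMap R p.ResidueField)
    (isUnit_iff_ne_zero.mpr (mt Ideal.algebraMap_residueField_eq_zero.mp i.hg))
    fun a ha => Ideal.algebraMap_residueField_eq_zero.mpr (i.hs a ha)).choose

theorem toResidue_comp (i : Idx p) :
    (toResidue i).comp (algebraMap R (stage i)) = algebraMap R p.ResidueField :=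
  (exists_stage_lift i (algebraMap R p.ResidueField)
    (isUnit_iff_ne_zero.mpr (mt Ideal.algebraMap_residueField_eq_zero.mp i.hg))
    fun a ha => Ideal.algebraMap_residueField_eq_zero.mpr (i.hs a ha)).choose_spec

variable (p)

/-- The stages as a functor. -/
noncomputable def ringFunctor : Idx p ⥤ CommRingCat.{u} where
  obj i := CommRingCat.of (stage i)
  map f := CommRingCat.ofHom (transition (leOfHom f))
  map_id i := CommRingCat.hom_ext (stage_hom_ext i (by
    simp [transition_comp]))
  map_comp {i j k} f g := CommRingCat.hom_ext (stage_hom_ext i (by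
    simp only [CommRingCat.hom_ofHom, CommRingCat.hom_comp, RingHom.comp_assoc, transition_comp]))

/-- The residue field as a cocone over the stages. -/
noncomputable def residueCocone : Cocone (ringFunctor p) where
  pt := CommRingCat.of p.ResidueField
  ι :=
    { app := fun i => CommRingCat.ofHom (toResidue i)
      naturality := fun i j f => CommRingCat.hom_ext (stage_hom_ext i (by
        simp only [ringFunctor, Functor.const_obj_obj, Functor.const_obj_map, Category.comp_id,
          CommRingCat.hom_ofHom, CommRingCat.hom_comp, RingHom.comp_assoc, transition_comp, toResidue_comp])) }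

theorem exists_numerator (i : Idx p) (z : stage i) :
    ∃ (a : R) (n : ℕ), z * algebraMap R (stage i) i.g ^ n = algebraMap R (stage i) a := by
  obtain ⟨z, rfl⟩ := Ideal.Quotient.mk_surjective z
  obtain ⟨n, a, ha⟩ := IsLocalization.Away.surj i.g z
  refine ⟨a, n, ?_⟩
  rw [IsScalarTower.algebraMap_apply R (Localization.Away i.g) (stage i) a,
    IsScalarTower.algebraMap_apply R (Localization.Away i.g) (stage i) i.g, ← ha, Ideal.Quotient.algebraMap_eq,
    map_mul, map_pow]

/-- The residue field is the colimit of the stages. -/
theorem nonempty_isColimit_residueCocone : Nonempty (IsColimit (residueCocone p)) := by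
  haveI : IsFiltered (Idx p) := inferInstance
  haveI : ReflectsColimit (ringFunctor p) (forget CommRingCat) := reflectsColimit_of_reflectsIsomorphisms _ _
  refine ⟨isColimitOfReflects (forget CommRingCat) (Types.FilteredColimit.isColimitOf' _ _ ?_ ?_)⟩
  · intro x
    change p.ResidueField at x
    obtain ⟨x, rfl⟩ := Ideal.Quotient.mk_surjective x
    obtain ⟨a, g, rfl⟩ := IsLocalization.exists_mk'_eq p.primeCompl x
    let i : Idx p := ⟨g.1, g.2, ∅, by simp⟩
    obtain ⟨v, hv⟩ := isUnit_stage_g (le_refl i)
    refine ⟨i, algebraMap R (stage i) a * (v⁻¹ : (stage i)ˣ).1, ?_⟩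
    have htr : ∀ r, toResidue i (algebraMap R (stage i) r) = algebraMap R p.ResidueField r :=
      RingHom.congr_fun (toResidue_comp i)
    have hgK : algebraMap R p.ResidueField g.1 ≠ 0 := mt Ideal.algebraMap_residueField_eq_zero.mp g.2
    let t : p.ResidueField := IsLocalRing.residue (Localization.AtPrime p) (IsLocalization.mk' _ a g)
    show t = toResidue i _
    refine mul_right_cancel₀ hgK (Eq.trans (b := algebraMap R p.ResidueField a) ?_ ?_)
    · show IsLocalRing.residue _ _ * algebraMap R p.ResidueField g.1 = _
      rw [IsScalarTower.algebraMap_apply R (Localization.AtPrime p) p.ResidueField a,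
        IsScalarTower.algebraMap_apply R (Localization.AtPrime p) p.ResidueField g.1]
      exact ((map_mul (IsLocalRing.residue (Localization.AtPrime p)) _ _).symm.trans
        (congrArg (IsLocalRing.residue (Localization.AtPrime p)) (IsLocalization.mk'_spec _ a g)))
    · rw [← htr g.1, ← map_mul, show algebraMap R (stage i) g.1 = v from hv.symm, mul_assoc, Units.inv_mul,
        mul_one, htr]
  · intro i x y hxy
    classical
    obtain ⟨a, n, ha⟩ := exists_numerator p i x
    obtain ⟨b, m, hb⟩ := exists_numerator p i y
    have hab : a * i.g ^ m - b * i.g ^ n ∈ p := by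
      rw [← Ideal.algebraMap_residueField_eq_zero, ← toResidue_comp i, RingHom.comp_apply, map_sub, map_mul,
        map_mul, map_pow, map_pow, ← ha, ← hb]
      have hxy' : toResidue i x = toResidue i y := hxy
      rw [map_sub, map_mul, map_mul, map_mul, map_mul, map_pow, hxy']
      simp only [map_pow]
      ring
    let j : Idx p := ⟨i.g, i.hg, insert (a * i.g ^ m - b * i.g ^ n) i.s, fun c hc =>
      (Finset.mem_insert.mp hc).elim (fun e => e ▸ hab) (i.hs c)⟩
    have hij : i ≤ j := ⟨dvd_rfl, Finset.subset_insert _ _⟩
    refine ⟨j, homOfLE hij, ?_⟩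
    show transition (leOfHom (homOfLE hij)) x = transition (leOfHom (homOfLE hij)) y
    refine ((isUnit_stage_g hij).pow (n + m)).mul_right_cancel ?_
    have h1 := congrArg (transition hij) ha
    have h2 := congrArg (transition hij) hb
    have h0 : algebraMap R (stage j) (a * i.g ^ m - b * i.g ^ n) = 0 :=
      algebraMap_stage_eq_zero (Finset.mem_insert_self _ _)
    simp only [map_mul, map_pow, map_sub, RingHom.congr_fun (transition_comp hij),
      ← RingHom.comp_apply (transition hij) (algebraMap R (stage i))] at h1 h2 h0
    rw [pow_add]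
    linear_combination algebraMap R (stage j) i.g ^ m * h1 - algebraMap R (stage j) i.g ^ n * h2 + h0

end Groth.Agent.H8Props.IndPoint
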